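import Groth.Prelude.Def_CInt
import Mathlib.AlgebraicGeometry.AffineScheme
import Mathlib.AlgebraicGeometry.Properties
import Mathlib.AlgebraicGeometry.Noetherian
import Mathlib.RingTheory.Ideal.AssociatedPrime.Finiteness
import Mathlib.RingTheory.Ideal.MinimalPrime.Localization
import Mathlib.Topology.Sober
import Mathlib.Topology.NoetherianSpace

/-! Schematically dense opens. -/

set_option autoImplicit false

universe u

open CategoryTheory AlgebraicGeometry TopologicalSpace Opposite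

namespace Groth.Agent.Rat20Lib

variable {X : Scheme.{u}}

theorem dense_of_sd {U : X.Opens} (hU : CInt.IsSchematicallyDense U) :
    Dense (U : Set X) := by
  refine dense_iff_inter_open.mpr fun V hV ⟨x, hx⟩ => ?_
  by_contra hne
  rw [Set.not_nonempty_iff_eq_empty] at hne
  have hbot : (⟨V, hV⟩ : X.Opens) ⊓ U = ⊥ := TopologicalSpace.Opens.ext hne
  have h0 : Subsingleton Γ(X, (⟨V, hV⟩ : X.Opens) ⊓ U) := by
    rw [hbot]; infer_instance
  have h1 : (1 : Γ(X, ⟨V, hV⟩)) = 0 := hU _ (Subsingleton.elim _ _)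
  have h2 := congrArg (X.presheaf.germ ⟨V, hV⟩ x hx).hom h1
  rw [map_one, map_zero] at h2
  exact one_ne_zero h2

theorem res_res {U V W : X.Opens} (h1 : V ≤ U) (h2 : W ≤ V) (a : Γ(X, U)) :
    X.presheaf.map (homOfLE h2).op (X.presheaf.map (homOfLE h1).op a) =
      X.presheaf.map (homOfLE (h2.trans h1)).op a := by
  rw [← CommRingCat.comp_apply, ← X.presheaf.map_comp]
  rfl

theorem sd_mono {U U' : X.Opens} (h : U ≤ U') (hU : CInt.IsSchematicallyDense U) :
    CInt.IsSchematicallyDense U' := by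
  intro V a b hab
  refine hU V ?_
  have := congrArg (X.presheaf.map (homOfLE (le_inf inf_le_left (inf_le_right.trans h) :
    V ⊓ U ≤ V ⊓ U')).op) hab
  rwa [res_res, res_res] at this

theorem sd_of_dense [IsReduced X] {U : X.Opens} (hU : Dense (U : Set X)) :
    CInt.IsSchematicallyDense U := by
  intro V a b hab
  rw [← sub_eq_zero, ← basicOpen_eq_bot_iff (X := X)]
  have h0 : X.presheaf.map (homOfLE (inf_le_left : V ⊓ U ≤ V)).op (a - b) = 0 := by
    rw [map_sub, hab, sub_self]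
  have h1 := X.basicOpen_res (a - b) (homOfLE (inf_le_left : V ⊓ U ≤ V)).op
  rw [h0, Scheme.basicOpen_zero] at h1
  by_contra hne
  obtain ⟨x, hx⟩ := (TopologicalSpace.Opens.ne_bot_iff_nonempty _).1 hne
  obtain ⟨y, hy, hyU⟩ := hU.inter_open_nonempty _ (X.basicOpen (a - b)).isOpen ⟨x, hx⟩
  have h2 : y ∈ (V ⊓ U) ⊓ X.basicOpen (a - b) := ⟨⟨X.basicOpen_le _ hy, hyU⟩, hy⟩
  rw [← h1] at h2
  exact h2

/-- A dense open contains the generic points of the components of a locally finite family. -/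
theorem mem_of_dense {T : Type*} [TopologicalSpace T]
    (hfin : ∀ x : T, ∃ W : Set T, IsOpen W ∧ x ∈ W ∧ {Z ∈ irreducibleComponents T | (Z ∩ W).Nonempty}.Finite)
    {V : Set T} (hVo : IsOpen V) (hV : Dense V) {η : T}
    (hη : closure {η} ∈ irreducibleComponents T) : η ∈ V := by
  obtain ⟨W, hWo, hηW, hF⟩ := hfin η
  set F := {Z ∈ irreducibleComponents T | (Z ∩ W).Nonempty} \ {closure {η}} with hFdef
  have hFfin : F.Finite := hF.sdiff
  have hcl : IsClosed (⋃ Z ∈ F, Z) :=
    hFfin.isClosed_biUnion fun Z hZ => isClosed_of_mem_irreducibleComponents Z hZ.1.1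
  have hηO : η ∈ W \ ⋃ Z ∈ F, Z := by
    refine ⟨hηW, fun h => ?_⟩
    simp only [Set.mem_iUnion] at h
    obtain ⟨Z, hZ, hηZ⟩ := h
    have hle : closure {η} ⊆ Z :=
      closure_minimal (Set.singleton_subset_iff.2 hηZ) (isClosed_of_mem_irreducibleComponents Z hZ.1.1)
    exact hZ.2 (le_antisymm (hη.2 hZ.1.1.1 hle) hle)
  obtain ⟨y, ⟨hyW, hyF⟩, hyV⟩ := hV.inter_open_nonempty _ (hWo.sdiff hcl) ⟨η, hηO⟩
  by_contra hηV
  obtain ⟨Z, hZ, hyZ⟩ : ∃ Z ∈ irreducibleComponents T, y ∈ Z :=
    ⟨irreducibleComponent y, irreducibleComponent_mem_irreducibleComponents y,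
      mem_irreducibleComponent⟩
  by_cases hZe : Z = closure {η}
  · subst hZe
    exact hηV ((specializes_iff_mem_closure.2 hyZ).mem_open hVo hyV)
  · refine hyF ?_
    simp only [Set.mem_iUnion]
    exact ⟨Z, ⟨⟨hZ, y, hyZ, hyW⟩, hZe⟩, hyZ⟩

/-- Finitely many prime ideals cover the zero divisors and each kills a nonzero element. -/
theorem exists_regular_mem {A : Type u} [CommRing A]
    (hA : IsNoetherianRing A ∨ (_root_.IsReduced A ∧ (minimalPrimes A).Finite)) (I : Ideal A)
    (hI : ∀ a : A, (∀ t ∈ I, t * a = 0) → a = 0) : ∃ t ∈ I, t ∈ nonZeroDivisors A := by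
  by_contra! hcon
  have key : ∀ (P : Set (Ideal A)), P.Finite → (∀ p ∈ P, p.IsPrime) →
      (∀ t : A, t ∉ nonZeroDivisors A → ∃ p ∈ P, t ∈ p) →
      (∀ p ∈ P, ∃ a : A, a ≠ 0 ∧ ∀ t ∈ p, t * a = 0) → False := by
    intro P hP hprime hcov hkill
    rcases P.eq_empty_or_nonempty with rfl | ⟨p₀, hp₀⟩
    · obtain ⟨p, hp, -⟩ := hcov 0 (hcon 0 I.zero_mem)
      exact hp
    · obtain ⟨p, hp, hle⟩ := (Ideal.subset_union_prime_finite hP (f := id) p₀ p₀
        fun q hq _ _ => hprime q hq).1 (fun t ht => by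
          obtain ⟨p, hp, htp⟩ := hcov t (hcon t ht)
          exact Set.mem_biUnion hp htp)
      obtain ⟨a, ha0, ha⟩ := hkill p hp
      exact ha0 (hI a fun t ht => ha t (hle ht))
  rcases hA with h | ⟨h, hfin⟩
  · refine key _ (associatedPrimes.finite A A) (fun p hp => hp.isPrime) (fun t ht => ?_) ?_
    · have : t ∈ (nonZeroDivisors A : Set A)ᶜ := ht
      rw [← biUnion_associatedPrimes_eq_compl_nonZeroDivisors] at this
      simpa using this
    · intro p hp
      obtain ⟨hpp, a, ha⟩ := (isAssociatedPrime_iff (R := A)).1 hp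
      refine ⟨a, fun h0 => hpp.ne_top (eq_top_iff.2 fun t _ => ?_), fun t ht => ?_⟩
      · rw [ha, Submodule.mem_colon_singleton, h0, smul_zero]; exact zero_mem _
      · rw [ha, Submodule.mem_colon_singleton, Submodule.mem_bot, smul_eq_mul] at ht
        exact ht
  · refine key _ hfin (fun p hp => hp.isPrime) (fun t ht => ?_) ?_
    · rw [mem_nonZeroDivisors_iff_right] at ht
      push Not at ht
      obtain ⟨y, hy, hy0⟩ := ht
      have h1 : t ∈ ⋃ p ∈ (⊥ : Ideal A).minimalPrimes, (p : Set A) := by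
        rw [Ideal.iUnion_minimalPrimes]
        refine ⟨y, ?_, ?_⟩
        · change y ∉ nilradical A
          rw [nilradical_eq_zero A, Ideal.zero_eq_bot, Submodule.mem_bot]
          exact hy0
        · rw [mul_comm, hy]; exact zero_mem _
      simpa [minimalPrimes] using h1
    · intro p hp
      classical
      have hsel : ∀ q ∈ hfin.toFinset.erase p, ∃ x ∈ q, x ∉ p := by
        intro q hq
        obtain ⟨hne, hq⟩ := Finset.mem_erase.1 hq
        rw [Set.Finite.mem_toFinset] at hq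
        exact Set.not_subset.1 fun hle => hne (le_antisymm hle (hp.2 hq.1 hle))
      choose! x hxq hxp using hsel
      set a := ∏ q ∈ hfin.toFinset.erase p, x q with hadef
      have hap : a ∉ p := by
        haveI := hp.isPrime
        rw [hadef]
        exact fun hmem => by
          obtain ⟨q, hq, hqp⟩ := (Ideal.IsPrime.prod_mem_iff).1 hmem
          exact hxp q hq hqp
      refine ⟨a, fun h0 => hap (h0 ▸ p.zero_mem), fun t ht => ?_⟩
      have : t * a ∈ nilradical A := by
        rw [nilradical, ← Ideal.sInf_minimalPrimes, Submodule.mem_sInf]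
        intro (q : Ideal A) hq
        by_cases hqp : q = p
        · exact hqp ▸ p.mul_mem_right _ ht
        · refine q.mul_mem_left _ ?_
          have hmem : q ∈ hfin.toFinset.erase p :=
            Finset.mem_erase.2 ⟨hqp, hfin.mem_toFinset.2 hq⟩
          rw [hadef, ← Finset.mul_prod_erase _ _ hmem]
          exact q.mul_mem_right _ (hxq q hmem)
      rwa [nilradical_eq_zero A, Ideal.zero_eq_bot, Submodule.mem_bot] at this

theorem mem_basicOpen_iff {W : X.Opens} (hW : IsAffineOpen W) (x : W) (t : Γ(X, W)) :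
    (x : X) ∈ X.basicOpen t ↔ t ∉ (hW.primeIdealOf x).asIdeal := by
  rw [← PrimeSpectrum.mem_basicOpen, ← SetLike.mem_coe, ← SetLike.mem_coe,
    ← hW.fromSpec_preimage_basicOpen]
  show _ ↔ hW.fromSpec (hW.primeIdealOf x) ∈ X.basicOpen t
  rw [hW.fromSpec_primeIdealOf]
  rfl

theorem exists_regular_basicOpen_le {W : X.Opens} (hW : IsAffineOpen W) {U : X.Opens}
    (hU : CInt.IsSchematicallyDense U)
    (hA : IsNoetherianRing Γ(X, W) ∨ (_root_.IsReduced Γ(X, W) ∧ (minimalPrimes Γ(X, W)).Finite)) :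
    ∃ t ∈ nonZeroDivisors Γ(X, W), X.basicOpen t ≤ U := by
  have hI : ∀ a : Γ(X, W), (∀ t ∈ (⨅ (x : W) (_ : (x : X) ∉ U), (hW.primeIdealOf x).asIdeal),
      t * a = 0) → a = 0 := by
    intro a ha
    refine hU W ?_
    refine TopCat.Presheaf.section_ext X.sheaf (W ⊓ U) _ _ fun x hx => ?_
    obtain ⟨f, hfle, hxf⟩ := hW.exists_basicOpen_le (V := W ⊓ U) ⟨x, hx⟩ hx.1
    have hfI : f ∈ ⨅ (x : W) (_ : (x : X) ∉ U), (hW.primeIdealOf x).asIdeal := by
      simp only [Ideal.mem_iInf]
      intro y hy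
      by_contra hf
      exact hy (hfle ((mem_basicOpen_iff hW y f).2 hf)).2
    have h1 := ha f hfI
    have h2 := congrArg (X.presheaf.map (homOfLE (X.basicOpen_le f)).op) h1
    rw [map_mul, map_zero] at h2
    have hu : IsUnit (X.presheaf.map (homOfLE (X.basicOpen_le f)).op f) :=
      RingedSpace.isUnit_res_basicOpen X.toLocallyRingedSpace.toRingedSpace f
    have h3 : X.presheaf.map (homOfLE (X.basicOpen_le f)).op a = 0 := hu.mul_right_eq_zero.1 h2
    have h4 := congrArg (X.presheaf.germ (X.basicOpen f) x hxf) h3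
    change (X.presheaf.germ (W ⊓ U) x hx) _ = (X.presheaf.germ (W ⊓ U) x hx) _
    rw [X.presheaf.germ_res_apply, X.presheaf.germ_res_apply, map_zero]
    rw [X.presheaf.germ_res_apply, map_zero] at h4
    exact h4
  obtain ⟨t, htI, ht⟩ := exists_regular_mem hA _ hI
  refine ⟨t, ht, fun x hx => ?_⟩
  by_contra hxU
  simp only [Ideal.mem_iInf] at htI
  exact (mem_basicOpen_iff hW ⟨x, X.basicOpen_le t hx⟩ t).1 hx (htI _ hxU)

theorem germ_regular {W : X.Opens} (hW : IsAffineOpen W) (t : Γ(X, W))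
    (ht : t ∈ nonZeroDivisors Γ(X, W)) (x : X) (hx : x ∈ W) :
    X.presheaf.germ W x hx t ∈ nonZeroDivisors (X.presheaf.stalk x) := by
  letI := TopCat.Presheaf.algebra_section_stalk X.presheaf ⟨x, hx⟩
  haveI := hW.isLocalization_stalk ⟨x, hx⟩
  show algebraMap Γ(X, W) (X.presheaf.stalk x) t ∈ _
  rw [mem_nonZeroDivisors_iff_right]
  intro y hy
  obtain ⟨a, s, rfl⟩ := IsLocalization.exists_mk'_eq (hW.primeIdealOf ⟨x, hx⟩).asIdeal.primeCompl y
  rw [← IsLocalization.mk'_one (M := (hW.primeIdealOf ⟨x, hx⟩).asIdeal.primeCompl)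
    (S := X.presheaf.stalk x) t, ← IsLocalization.mk'_mul, IsLocalization.mk'_eq_zero_iff] at hy
  obtain ⟨c, hc⟩ := hy
  rw [IsLocalization.mk'_eq_zero_iff]
  exact ⟨c, (mem_nonZeroDivisors_iff_right.1 ht) _ (by rw [mul_assoc]; exact hc)⟩

end Groth.Agent.Rat20Lib
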