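import Groth.Agent.FEtFF.Hartogs

/-! Functions and maps to affine schemes extend across points of depth at least two. -/

set_option autoImplicit false

universe u

open CategoryTheory AlgebraicGeometry TopologicalSpace Opposite

namespace Groth.Agent.Rat20Lib

variable {X : Scheme.{u}} [IsLocallyNoetherian X] (U : X.Opens)
  (h : ∀ x : X, x ∉ U → (2 : ℕ∞) ≤ _root_.LocCoh.depth (X.presheaf.stalk x) (X.presheaf.stalk x))

include h in
theorem res_injective (W : X.Opens) :
    Function.Injective (X.presheaf.map (homOfLE (inf_le_left : W ⊓ U ≤ W)).op) := by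
  intro s t hst
  let ι := {V : X.Opens // IsAffineOpen V ∧ V ≤ W}
  refine X.sheaf.eq_of_locally_eq' (fun i : ι ↦ i.1) W (fun i ↦ homOfLE i.2.2) ?_ s t fun i ↦ ?_
  · intro x hx
    obtain ⟨V, hV, hxV, hVW⟩ := exists_isAffineOpen_mem_and_subset (x := x) (U := W) hx
    exact Opens.mem_iSup.mpr ⟨⟨V, hV, hVW⟩, hxV⟩
  · apply (FEtFF.Hartogs.bijective_restrict U h i.2.1 rfl inf_le_left).1
    show (X.presheaf.map (homOfLE _).op) ((X.presheaf.map (homOfLE _).op) s) =
      (X.presheaf.map (homOfLE _).op) ((X.presheaf.map (homOfLE _).op) t)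
    simp only [← ConcreteCategory.comp_apply, ← Functor.map_comp, ← op_comp]
    have e : homOfLE (inf_le_left : i.1 ⊓ U ≤ i.1) ≫ homOfLE i.2.2 =
        homOfLE (inf_le_inf_right U i.2.2) ≫ homOfLE (inf_le_left : W ⊓ U ≤ W) := rfl
    rw [e, op_comp, Functor.map_comp, ConcreteCategory.comp_apply, ConcreteCategory.comp_apply, hst]

include h in
theorem res_bijective (W : X.Opens) :
    Function.Bijective (X.presheaf.map (homOfLE (inf_le_left : W ⊓ U ≤ W)).op) := by
  refine ⟨res_injective U h W, fun σ ↦ ?_⟩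
  let ι := {V : X.Opens // IsAffineOpen V ∧ V ≤ W}
  choose sf hsf using fun i : ι ↦ (FEtFF.Hartogs.bijective_restrict U h i.2.1 rfl inf_le_left).2
    (X.presheaf.map (homOfLE (inf_le_inf_right U i.2.2)).op σ)
  have key : ∀ (i : ι) (T : X.Opens) (hT : T ≤ i.1) (hTW : T ⊓ U ≤ W ⊓ U),
      X.presheaf.map (homOfLE (inf_le_left : T ⊓ U ≤ T)).op (X.presheaf.map (homOfLE hT).op (sf i)) =
        X.presheaf.map (homOfLE hTW).op σ := fun i T hT hTW ↦ by
    rw [← ConcreteCategory.comp_apply, ← Functor.map_comp, ← op_comp]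
    have e : homOfLE (inf_le_left : T ⊓ U ≤ T) ≫ homOfLE hT =
        homOfLE (inf_le_inf_right U hT) ≫ homOfLE (inf_le_left : i.1 ⊓ U ≤ i.1) := rfl
    rw [e, op_comp, Functor.map_comp, ConcreteCategory.comp_apply, hsf, ← ConcreteCategory.comp_apply,
      ← Functor.map_comp, ← op_comp]
    rfl
  have hcov : W ≤ iSup fun i : ι ↦ i.1 := fun x hx ↦ by
    obtain ⟨V, hV, hxV, hVW⟩ := exists_isAffineOpen_mem_and_subset (x := x) (U := W) hx
    exact Opens.mem_iSup.mpr ⟨⟨V, hV, hVW⟩, hxV⟩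
  obtain ⟨s, hs, -⟩ := X.sheaf.existsUnique_gluing' (fun i : ι ↦ i.1) W (fun i ↦ homOfLE i.2.2) hcov sf fun i j ↦ by
    apply res_injective U h
    exact (key i _ inf_le_left (inf_le_inf_right U (inf_le_left.trans i.2.2))).trans
      (key j _ inf_le_right (inf_le_inf_right U (inf_le_left.trans i.2.2))).symm
  refine ⟨s, X.sheaf.eq_of_locally_eq' (fun i : ι ↦ i.1 ⊓ U) (W ⊓ U) (fun i ↦ homOfLE (inf_le_inf_right U i.2.2)) ?_ _ _ fun i ↦ ?_⟩
  · intro x hx
    obtain ⟨i, hi⟩ := Opens.mem_iSup.mp (hcov hx.1)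
    exact Opens.mem_iSup.mpr ⟨i, hi, hx.2⟩
  · show (X.presheaf.map (homOfLE _).op) ((X.presheaf.map (homOfLE _).op) s) = (X.presheaf.map (homOfLE _).op) σ
    rw [← ConcreteCategory.comp_apply, ← Functor.map_comp, ← op_comp]
    have e : homOfLE (inf_le_inf_right U i.2.2) ≫ homOfLE (inf_le_left : W ⊓ U ≤ W) =
        homOfLE (inf_le_left : i.1 ⊓ U ≤ i.1) ≫ homOfLE i.2.2 := rfl
    rw [e, op_comp, Functor.map_comp, ConcreteCategory.comp_apply]
    exact (congrArg _ (hs i)).trans (hsf i)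

include h in
theorem appTop_bijective : Function.Bijective U.ι.appTop := by
  rw [Scheme.Hom.appTop, Scheme.Opens.ι_app]
  have e : U.ι ''ᵁ U.ι ⁻¹ᵁ (⊤ : X.Opens) = ⊤ ⊓ U := by
    rw [Scheme.Hom.image_preimage_eq_opensRange_inf, Scheme.Opens.opensRange_ι, inf_comm]
  have aux : ∀ (T : X.Opens) (hT : T = ⊤ ⊓ U) (hle : T ≤ ⊤), Function.Bijective (X.presheaf.map (homOfLE hle).op) := by
    rintro T rfl hle
    exact res_bijective U h ⊤
  exact aux _ e _

include h in
/-- Maps to affine schemes extend uniquely across points of depth at least two. -/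
theorem existsUnique_extension {Y : Scheme.{u}} [IsAffine Y] (f : (U : Scheme.{u}) ⟶ Y) :
    ∃! g : X ⟶ Y, U.ι ≫ g = f := by
  haveI : IsIso U.ι.appTop := (ConcreteCategory.isIso_iff_bijective _).mpr (appTop_bijective U h)
  refine ⟨X.toSpecΓ ≫ Spec.map (f.appTop ≫ inv U.ι.appTop) ≫ Y.isoSpec.inv, ?_, fun g hg ↦ ?_⟩
  · show U.ι ≫ _ = f
    rw [Scheme.toSpecΓ_naturality_assoc, ← Spec.map_comp_assoc, Category.assoc, IsIso.inv_hom_id, Category.comp_id,
      ← Scheme.toSpecΓ_naturality_assoc, Scheme.toSpecΓ_isoSpec_inv, Category.comp_id]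
  · apply ext_of_isAffine
    rw [← hg]
    have h1 : g = X.toSpecΓ ≫ Spec.map g.appTop ≫ Y.isoSpec.inv := by
      rw [← Scheme.toSpecΓ_naturality_assoc, Scheme.toSpecΓ_isoSpec_inv, Category.comp_id]
    conv_lhs => rw [h1]
    rw [Scheme.Hom.comp_appTop U.ι g, Category.assoc, IsIso.hom_inv_id, Category.comp_id]

end Groth.Agent.Rat20Lib
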