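import Mathlib.AlgebraicGeometry.Morphisms.UniversallyOpen
import Mathlib.AlgebraicGeometry.Morphisms.FiniteType
import Mathlib.AlgebraicGeometry.Morphisms.Separated
import Mathlib.AlgebraicGeometry.PullbackCarrier
import Mathlib.RingTheory.Valuation.LocalSubring
import Mathlib.AlgebraicGeometry.FunctionField
import Mathlib.RingTheory.IntegralClosure.IntegrallyClosed

/-! A fraction which becomes regular after a universally open base change is regular at a normal point. -/

open CategoryTheory CategoryTheory.Limits AlgebraicGeometry TensorProduct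

namespace Groth.Agent.Rat20Lib

universe u

theorem universallyOpen_of_comp_mono {X Y Z : Scheme.{u}} (f : X ⟶ Y) (g : Y ⟶ Z) [Mono g]
    [hfg : UniversallyOpen (f ≫ g)] : UniversallyOpen f := by
  have H : IsPullback f (𝟙 X) g (f ≫ g) :=
    IsPullback.of_isLimit' ⟨by simp⟩ <| PullbackCone.IsLimit.mk _ (fun s => s.snd)
      (fun s => by rw [← cancel_mono g, Category.assoc, s.condition])
      (fun s => Category.comp_id _) (fun s m _ hm => by simpa using hm)
  exact MorphismProperty.of_isPullback (P := @UniversallyOpen) H.flip hfg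

/-- The key lemma. -/
theorem exists_den_of_universallyOpen {A A' : Type u} [CommRing A] [IsDomain A] [CommRing A'] [Algebra A A']
    [UniversallyOpen (Spec.map (CommRingCat.ofHom (algebraMap A A')))] (q : PrimeSpectrum A')
    (p : Ideal A) [p.IsPrime] (hp : p = q.asIdeal.comap (algebraMap A A'))
    [IsIntegrallyClosed (Localization.AtPrime p)] {a c : A} (hc : c ≠ 0) (b' : A')
    (h : algebraMap A A' c * b' = algebraMap A A' a) : ∃ d ∉ p, ∃ e, a * d = e * c := by
  classical
  by_contra hcon
  push Not at hcon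
  let K := FractionRing A
  let L := Localization.AtPrime p
  have hpc : p.primeCompl ≤ nonZeroDivisors A := p.primeCompl_le_nonZeroDivisors
  let algL : Algebra L K :=
    (IsLocalization.map (M := p.primeCompl) (T := nonZeroDivisors A) K (RingHom.id A) hpc : L →+* K).toAlgebra
  have : IsScalarTower A L K := IsScalarTower.of_algebraMap_eq fun z => by
    rw [RingHom.algebraMap_toAlgebra, IsLocalization.map_eq, RingHom.id_apply]
  have : IsFractionRing L K := IsFractionRing.isFractionRing_of_isDomain_of_isLocalization p.primeCompl L K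
  let R := LocalSubring.range (algebraMap L K)
  have hRmem : ∀ z, z ∈ R.toSubring ↔ ∃ w, algebraMap L K w = z := fun z => Iff.rfl
  have : IsIntegrallyClosedIn R.toSubring K := by
    rw [Subring.isIntegrallyClosedIn_iff]
    rintro z ⟨P, hP, hPz⟩
    obtain ⟨Q, hQ, -, hQm⟩ : ∃ Q : Polynomial L, Q.map ((algebraMap L K).codRestrict R.toSubring fun w => (hRmem _).mpr ⟨w, rfl⟩) = P ∧
        Q.degree = P.degree ∧ Q.Monic :=
      Polynomial.lifts_and_degree_eq_and_monic ((Polynomial.lifts_iff_coeff_lifts _).mpr fun n => by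
        obtain ⟨w, hw⟩ := (hRmem _).mp (P.coeff n).2
        exact ⟨w, Subtype.ext hw⟩) hP
    have hint : IsIntegral L z := by
      refine ⟨Q, hQm, ?_⟩
      rw [← hQ, Polynomial.eval₂_map] at hPz
      exact hPz
    exact (hRmem z).mpr (IsIntegrallyClosed.isIntegral_iff.mp hint)
  have hc0 : algebraMap A K c ≠ 0 := fun e => hc (IsFractionRing.injective A K (by rw [e, map_zero]))
  set g : K := algebraMap A K a / algebraMap A K c with hg
  have hgR : g ∉ R.toSubring := by
    rintro hmem
    obtain ⟨w, hw⟩ := (hRmem _).mp hmem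
    obtain ⟨⟨e, d⟩, hed⟩ := IsLocalization.surj p.primeCompl w
    refine hcon d d.2 e (IsFractionRing.injective A K ?_)
    have h1 := congrArg (algebraMap L K) hed
    rw [map_mul, ← IsScalarTower.algebraMap_apply, ← IsScalarTower.algebraMap_apply, hw, hg,
      div_mul_eq_mul_div, div_eq_iff hc0] at h1
    rw [map_mul, map_mul]; exact h1
  obtain ⟨V, hRV, hgV⟩ := LocalSubring.exists_le_valuationSubring_of_isIntegrallyClosedIn hgR
  obtain ⟨hle, hloc⟩ := hRV
  have hAR : ∀ z : A, algebraMap A K z ∈ R.toSubring := fun z =>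
    (hRmem _).mpr ⟨algebraMap A L z, (IsScalarTower.algebraMap_apply A L K z).symm⟩
  let r : A →+* V := (algebraMap A K).codRestrict V fun z => hle (hAR z)
  let algV : Algebra A V := r.toAlgebra
  have ha0 : a ≠ 0 := fun e => hgR (by rw [hg, e, map_zero, zero_div]; exact zero_mem _)
  have hg0 : g ≠ 0 := div_ne_zero (fun e => ha0 (IsFractionRing.injective A K (by rw [e, map_zero]))) hc0
  let t : V := ⟨g⁻¹, (V.mem_or_inv_mem g).resolve_left hgV⟩
  have ht : t ∈ IsLocalRing.maximalIdeal V := by
    rw [IsLocalRing.mem_maximalIdeal, mem_nonunits_iff]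
    intro hu
    obtain ⟨w, hw⟩ := isUnit_iff_exists_inv.mp hu
    have : (t : K) * (w : K) = 1 := congrArg Subtype.val hw
    refine hgV ?_
    have e : g = (w : K) := by
      rw [show (t : K) = g⁻¹ from rfl, inv_mul_eq_iff_eq_mul₀ hg0, mul_one] at this
      exact this.symm
    rw [e]; exact w.2
  have hat : algebraMap A V a * t = algebraMap A V c := Subtype.ext (by
    show algebraMap A K a * g⁻¹ = algebraMap A K c
    have hak : algebraMap A K a ≠ 0 := fun e => ha0 (IsFractionRing.injective A K (by rw [e, map_zero]))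
    rw [hg, inv_div, ← mul_div_assoc, mul_comm, mul_div_assoc, div_self hak, mul_one])
  have hcomap : (IsLocalRing.maximalIdeal V).comap (algebraMap A V) = p := by
    ext z
    rw [Ideal.mem_comap, IsLocalRing.mem_maximalIdeal, mem_nonunits_iff]
    constructor
    · intro hnu
      by_contra hzp
      have hu : IsUnit (algebraMap A L z) := IsLocalization.map_units L (⟨z, hzp⟩ : p.primeCompl)
      obtain ⟨w, hw⟩ := isUnit_iff_exists_inv.mp hu
      refine hnu (isUnit_iff_exists_inv.mpr ⟨⟨algebraMap L K w, hle ((hRmem _).mpr ⟨w, rfl⟩)⟩, Subtype.ext ?_⟩)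
      show algebraMap A K z * algebraMap L K w = 1
      rw [IsScalarTower.algebraMap_apply A L K z, ← map_mul, hw, map_one]
    · intro hzp hu
      have h2 := hloc.map_nonunit (⟨algebraMap A K z, hAR z⟩ : R.toSubring) hu
      obtain ⟨⟨w, hw⟩, hw1⟩ := isUnit_iff_exists_inv.mp h2
      obtain ⟨w', rfl⟩ := (hRmem _).mp hw
      have h3 : algebraMap A K z * algebraMap L K w' = 1 := congrArg Subtype.val hw1
      rw [IsScalarTower.algebraMap_apply A L K z, ← map_mul, ← map_one (algebraMap L K)] at h3
      have h4 : IsUnit (algebraMap A L z) := IsUnit.of_mul_eq_one w' (IsFractionRing.injective L K h3)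
      exact (IsLocalization.AtPrime.isUnit_to_map_iff L p z).mp h4 hzp
  let m : PrimeSpectrum V := ⟨IsLocalRing.maximalIdeal V, inferInstance⟩
  have hqm : (Spec.map (CommRingCat.ofHom (algebraMap A A'))) q =
      (Spec.map (CommRingCat.ofHom (algebraMap A V))) m := PrimeSpectrum.ext (hp.symm.trans hcomap.symm)
  obtain ⟨z, hz1, hz2⟩ := Scheme.Pullback.exists_preimage_pullback
    (f := Spec.map (CommRingCat.ofHom (algebraMap A A'))) (g := Spec.map (CommRingCat.ofHom (algebraMap A V))) q m hqm
  let e := pullbackSpecIso A A' V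
  have hopen : IsOpenMap (Spec.map (CommRingCat.ofHom (R := V) (S := A' ⊗[A] V)
      (Algebra.TensorProduct.includeRight : V →ₐ[A] A' ⊗[A] V).toRingHom)) := by
    have h1 := pullbackSpecIso_inv_snd A A' V
    have : UniversallyOpen (e.inv ≫ pullback.snd (Spec.map (CommRingCat.ofHom (algebraMap A A')))
        (Spec.map (CommRingCat.ofHom (algebraMap A V)))) := inferInstance
    have h2 := (e.inv ≫ pullback.snd (Spec.map (CommRingCat.ofHom (algebraMap A A')))
        (Spec.map (CommRingCat.ofHom (algebraMap A V)))).isOpenMap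
    exact h1 ▸ h2
  set w : PrimeSpectrum (A' ⊗[A] V) := e.hom z with hw
  set s : A' ⊗[A] V := b' ⊗ₜ t - 1 with hs
  have hwr : PrimeSpectrum.comap (Algebra.TensorProduct.includeRight : V →ₐ[A] A' ⊗[A] V).toRingHom w = m := by
    change (Spec.map (CommRingCat.ofHom (R := V) (S := A' ⊗[A] V) _)) w = m
    refine (congrArg (fun F => F w) (pullbackSpecIso_inv_snd A A' V)).symm.trans ?_
    refine Eq.trans ?_ hz2
    show (pullback.snd (Spec.map (CommRingCat.ofHom (algebraMap A A')))
      (Spec.map (CommRingCat.ofHom (algebraMap A V)))) ((e.hom ≫ e.inv) z) = _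
    rw [e.hom_inv_id]; rfl
  have hsw : s ∉ w.asIdeal := by
    intro hsmem
    have h1 : (1 : A') ⊗ₜ[A] t ∈ w.asIdeal := by
      have := hwr.symm ▸ (show t ∈ m.asIdeal from ht)
      exact this
    have h2 : b' ⊗ₜ[A] t ∈ w.asIdeal := by
      have := w.asIdeal.mul_mem_left (b' ⊗ₜ[A] (1 : V)) h1
      rwa [Algebra.TensorProduct.tmul_mul_tmul, mul_one, one_mul] at this
    have h3 := w.asIdeal.sub_mem h2 hsmem
    rw [hs, sub_sub_cancel] at h3
    exact w.2.ne_top ((Ideal.eq_top_iff_one _).mpr h3)
  have himg := hopen _ (PrimeSpectrum.isOpen_basicOpen (a := s))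
  let bot : PrimeSpectrum V := ⟨⊥, Ideal.isPrime_bot⟩
  obtain ⟨w', hw's, hw'⟩ := ((PrimeSpectrum.le_iff_specializes bot m).mp bot_le).mem_open himg ⟨w, hsw, hwr⟩
  have hzero : ((1 : A') ⊗ₜ[A] algebraMap A V a) * s = 0 := by
    rw [hs, mul_sub, mul_one, Algebra.TensorProduct.tmul_mul_tmul, one_mul, hat, sub_eq_zero,
      Algebra.algebraMap_eq_smul_one c, ← TensorProduct.smul_tmul, Algebra.smul_def, h,
      Algebra.algebraMap_eq_smul_one a, Algebra.algebraMap_eq_smul_one a, TensorProduct.smul_tmul]
  have hmem : (1 : A') ⊗ₜ[A] algebraMap A V a ∈ w'.asIdeal :=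
    (w'.2.mem_or_mem (hzero ▸ w'.asIdeal.zero_mem)).resolve_right hw's
  have h0 : algebraMap A V a ∈ bot.asIdeal := hw' ▸ (show _ ∈ w'.asIdeal from hmem)
  have h0' : algebraMap A V a = 0 := h0
  have h0'' : algebraMap A K a = 0 := congrArg Subtype.val h0'
  exact ha0 (IsFractionRing.injective A K (h0''.trans (map_zero _).symm))

end Groth.Agent.Rat20Lib
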